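import Cfsg.Agent.SpUnipotentCount.Tuples
import Cfsg.Agent.Forms.SymplecticOrder

/-!
# Unipotent isometries fixing a vector

A unipotent isometry fixing `e` is given by a vector of the orthogonal of a hyperbolic pair
`(e, f)`, a scalar, and a unipotent isometry of that orthogonal.
-/

set_option autoImplicit false
set_option linter.style.haveILetI false

namespace CfsgLib.SpUni

open Submodule Finset CfsgLib.Forms

variable {F V : Type*} [Field F] [AddCommGroup V] [Module F V]

/-- The unipotent isometries fixing each entry of a tuple. -/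
def fixers (B : LinearMap.BilinForm F V) {k : ℕ} (w : Fin k → V) : Set (Module.End F V) :=
  {g | ((∀ u v, B (g u) (g v) = B u v) ∧ IsNilpotent (g - 1)) ∧ ∀ i, g (w i) = w i}

/-- The number of pairs of a unipotent isometry and an isotropic tuple fixed by it. -/
noncomputable def Tcard (B : LinearMap.BilinForm F V) (k : ℕ) : ℕ :=
  Nat.card (Σ w : isoTup B k ⊤, fixers B w.1)

/-- The annihilator of a tuple. -/
def annih (B : LinearMap.BilinForm F V) {k : ℕ} (x : Fin k → V) : Set V :=
  {a | ∀ i, B a (x i) = 0}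

theorem card_annih [Fintype F] [Finite V] [FiniteDimensional F V]
    {B : LinearMap.BilinForm F V} (hA : B.IsAlt) (hB : B.Nondegenerate) {k : ℕ} {x : Fin k → V}
    (hx : LinearIndependent F x) :
    Nat.card (annih B x) * Fintype.card F ^ k = Fintype.card F ^ Module.finrank F V := by
  have hX : Module.finrank F (span F (Set.range x)) = k := by
    rw [finrank_span_eq_card hx, Fintype.card_fin]
  have hk : k ≤ Module.finrank F V := hX ▸ Submodule.finrank_le _
  have heq : annih B x = (LinearMap.BilinForm.orthogonal B (span F (Set.range x)) : Set V) := by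
    ext a
    show (∀ i, B a (x i) = 0) ↔ ∀ n ∈ span F (Set.range x), B n a = 0
    refine ⟨fun h n hn => ?_, fun h i => alt_symm hA _ _ (h _ (subset_span ⟨i, rfl⟩))⟩
    obtain ⟨c, rfl⟩ := (Submodule.mem_span_range_iff_exists_fun F).1 hn
    simp [fun i => alt_symm hA _ _ (h i)]
  rw [heq, SetLike.coe_sort_coe, Module.natCard_eq_pow_finrank (K := F),
    LinearMap.BilinForm.finrank_orthogonal hB, hX, Nat.card_eq_fintype_card, ← pow_add,
    Nat.sub_add_cancel hk]

section pair

variable {B : LinearMap.BilinForm F V} (hA : B.IsAlt) {e f : V} (hef : B e f = 1)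

local notation "V'" => pairPerp B e f
local notation "B'" => restrictForm B (pairPerp B e f)

theorem form_pairDecomp (p p' : (F × F) × V') :
    B (pairDecomp B hA hef p) (pairDecomp B hA hef p') =
      p.1.1 * p'.1.2 - p.1.2 * p'.1.1 + B' p.2 p'.2 := by
  have hfe : B f e = -1 := by rw [← LinearMap.IsAlt.neg hA e f, hef]
  have h1 : ∀ x : V', B e x = 0 ∧ B f x = 0 ∧ B x e = 0 ∧ B x f = 0 := fun x =>
    ⟨x.2.1, x.2.2, alt_symm hA _ _ x.2.1, alt_symm hA _ _ x.2.2⟩
  simp [pairDecomp, hA e, hA f, hef, hfe, (h1 _).1, (h1 _).2.1, (h1 _).2.2.1, (h1 _).2.2.2]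
  ring

theorem form_e_left (p : (F × F) × V') : B e (pairDecomp B hA hef p) = p.1.2 := by
  simp [pairDecomp, hA e, hef, show B e (p.2 : V) = 0 from p.2.2.1]

theorem form_f_left (p : (F × F) × V') : B f (pairDecomp B hA hef p) = -p.1.1 := by
  have hfe : B f e = -1 := by rw [← LinearMap.IsAlt.neg hA e f, hef]
  simp [pairDecomp, hA f, hfe, show B f (p.2 : V) = 0 from p.2.2.2]

/-- The map of coordinates attached to `(a, b, h)`. -/
def coordMap (a : V') (b : F) (h : Module.End F V') : Module.End F ((F × F) × V') where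
  toFun p := ((p.1.1 + p.1.2 * b + B' a (h p.2), p.1.2), p.1.2 • a + h p.2)
  map_add' p p' := by
    refine Prod.ext (Prod.ext ?_ ?_) ?_
    · simp only [Prod.fst_add, Prod.snd_add, map_add]
      ring
    · rfl
    · simp only [Prod.fst_add, Prod.snd_add, map_add, add_smul]
      abel
  map_smul' c p := by
    refine Prod.ext (Prod.ext ?_ ?_) ?_
    · simp only [Prod.smul_fst, Prod.smul_snd, map_smul, smul_eq_mul, RingHom.id_apply]
      ring
    · rfl
    · simp only [Prod.smul_fst, Prod.smul_snd, map_smul, smul_add, smul_smul, RingHom.id_apply,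
        smul_eq_mul]

/-- The endomorphism of `V` attached to `(a, b, h)`. -/
def coordEnd (a : V') (b : F) (h : Module.End F V') : Module.End F V :=
  (pairDecomp B hA hef).toLinearMap ∘ₗ coordMap a b h ∘ₗ (pairDecomp B hA hef).symm.toLinearMap

theorem coordEnd_apply (a : V') (b : F) (h : Module.End F V') (p : (F × F) × V') :
    coordEnd hA hef a b h (pairDecomp B hA hef p) =
      pairDecomp B hA hef ((p.1.1 + p.1.2 * b + B' a (h p.2), p.1.2), p.1.2 • a + h p.2) := by
  simp [coordEnd, coordMap]

theorem coordEnd_isometry (a : V') (b : F) {h : Module.End F V'}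
    (hh : ∀ u v, B' (h u) (h v) = B' u v) (u v : V) :
    B (coordEnd hA hef a b h u) (coordEnd hA hef a b h v) = B u v := by
  obtain ⟨p, rfl⟩ := (pairDecomp B hA hef).surjective u
  obtain ⟨p', rfl⟩ := (pairDecomp B hA hef).surjective v
  rw [coordEnd_apply, coordEnd_apply, form_pairDecomp, form_pairDecomp, ← hh p.2 p'.2]
  have hanti : ∀ x y : V', B' x y = -B' y x := fun x y => (LinearMap.IsAlt.neg hA _ _).symm
  have hself : B' a a = 0 := hA _
  simp only [map_add, map_smul, LinearMap.add_apply, LinearMap.smul_apply, smul_eq_mul, hself]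
  rw [hanti (h p.2) a]
  ring

theorem coordEnd_sub_one_pow (a : V') (b : F) (h : Module.End F V') (n : ℕ) (t : F) (x : V') :
    ∃ t' : F, ((coordEnd hA hef a b h - 1) ^ n) (pairDecomp B hA hef ((t, 0), x)) =
      pairDecomp B hA hef ((t', 0), ((h - 1) ^ n) x) := by
  induction n with
  | zero => exact ⟨t, by simp⟩
  | succ n ih =>
    obtain ⟨t', ht'⟩ := ih
    refine ⟨B' a (h (((h - 1) ^ n) x)), ?_⟩
    rw [pow_succ', Module.End.mul_apply, ht', LinearMap.sub_apply, Module.End.one_apply,
      coordEnd_apply, ← map_sub, pow_succ', Module.End.mul_apply, LinearMap.sub_apply,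
      Module.End.one_apply]
    refine congrArg _ (Prod.ext (Prod.ext ?_ ?_) ?_) <;> simp

theorem isNilpotent_coordEnd {a : V'} {b : F} {h : Module.End F V'} :
    IsNilpotent (coordEnd hA hef a b h - 1) ↔ IsNilpotent (h - 1) := by
  constructor
  · rintro ⟨n, hn⟩
    refine ⟨n, LinearMap.ext fun x => ?_⟩
    obtain ⟨t', ht'⟩ := coordEnd_sub_one_pow hA hef a b h n 0 x
    rw [hn, LinearMap.zero_apply, ← (pairDecomp B hA hef).map_zero] at ht'
    exact (congrArg Prod.snd ((pairDecomp B hA hef).injective ht')).symm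
  · rintro ⟨n, hn⟩
    refine ⟨1 + n + 1, LinearMap.ext fun z => ?_⟩
    obtain ⟨p, rfl⟩ := (pairDecomp B hA hef).surjective z
    rw [pow_succ, Module.End.mul_apply, LinearMap.sub_apply, Module.End.one_apply, coordEnd_apply,
      ← map_sub, pow_add, Module.End.mul_apply, pow_one]
    obtain ⟨t', ht'⟩ := coordEnd_sub_one_pow hA hef a b h n (p.1.2 * b + B' a (h p.2))
      (p.1.2 • a + h p.2 - p.2)
    have harg : (((p.1.1 + p.1.2 * b + B' a (h p.2), p.1.2), p.1.2 • a + h p.2) - p :
        (F × F) × V') = ((p.1.2 * b + B' a (h p.2), 0), p.1.2 • a + h p.2 - p.2) := by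
      refine Prod.ext (Prod.ext ?_ ?_) ?_ <;> simp [add_assoc]
    rw [harg, ht', hn, LinearMap.sub_apply, Module.End.one_apply, coordEnd_apply]
    simp

theorem pairDecomp_e : pairDecomp B hA hef ((1, 0), 0) = e := by simp [pairDecomp]

theorem coordEnd_e (a : V') (b : F) (h : Module.End F V') : coordEnd hA hef a b h e = e := by
  have := coordEnd_apply hA hef a b h ((1, 0), 0)
  simpa [pairDecomp] using this

/-- Every isometry fixing `e` comes from a triple. -/
theorem exists_coord {g : Module.End F V} (hg : ∀ u v, B (g u) (g v) = B u v) (hge : g e = e) :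
    ∃ a b h, (∀ u v, B' (h u) (h v) = B' u v) ∧ coordEnd hA hef a b h = g := by
  let Q := (pairDecomp B hA hef).symm
  let pf := Q (g f)
  let h : Module.End F V' :=
    LinearMap.snd F (F × F) V' ∘ₗ Q.toLinearMap ∘ₗ g ∘ₗ (V').subtype
  have hgf : g f = pairDecomp B hA hef pf := ((pairDecomp B hA hef).apply_symm_apply _).symm
  have hpf : pf.1.2 = 1 := by
    have := hg e f
    rw [hge, hef, hgf, form_e_left] at this
    exact this
  have hgx : ∀ x : V', g x = pairDecomp B hA hef ((B' pf.2 (h x), 0), h x) := by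
    intro x
    obtain ⟨r, hr⟩ : ∃ r, r = Q (g x) := ⟨_, rfl⟩
    have hgr : g x = pairDecomp B hA hef r := by
      rw [hr]; exact ((pairDecomp B hA hef).apply_symm_apply _).symm
    have hx : h x = r.2 := by rw [hr]; rfl
    have h2 : r.1.2 = 0 := by
      have := hg e x
      rw [hge, hgr, form_e_left, show B e (x : V) = 0 from x.2.1] at this
      exact this
    have h1 : r.1.1 = B' pf.2 (h x) := by
      have := hg f x
      rw [hgr, hgf, form_pairDecomp, h2, hpf, show B f (x : V) = 0 from x.2.2] at this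
      rw [hx]
      linear_combination -this
    rw [hgr, hx, ← hx, ← h1]
    exact congrArg _ (Prod.ext (Prod.ext rfl h2) hx.symm)
  refine ⟨pf.2, pf.1.1, h, fun x y => ?_, ?_⟩
  · have := hg x y
    rw [hgx, hgx, form_pairDecomp] at this
    simpa using this
  · apply LinearMap.ext
    intro z
    obtain ⟨p, rfl⟩ := (pairDecomp B hA hef).surjective z
    rw [coordEnd_apply]
    have hz : pairDecomp B hA hef p = p.1.1 • e + p.1.2 • f + (p.2 : V) := rfl
    rw [hz, map_add, map_add, map_smul, map_smul, hge, hgf, hgx]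
    simp [pairDecomp, hpf]
    module

/-- The tuple in `V` with coordinates `(t, x)`. -/
def liftTup {k : ℕ} (t : Fin k → F) (x : Fin k → V') (i : Fin k) : V :=
  pairDecomp B hA hef ((t i, 0), x i)

theorem cons_liftTup_mem {k : ℕ} {t : Fin k → F} {x : Fin k → V'} (hx : x ∈ isoTup B' k ⊤) :
    (Fin.cons e (liftTup hA hef t x) : Fin (k + 1) → V) ∈ isoTup B (k + 1) ⊤ := by
  obtain ⟨hx1, hx2, -⟩ := hx
  have hw : ∀ i, ∃ a : F, ∃ y : V', (Fin.cons e (liftTup hA hef t x) : Fin (k + 1) → V) i =
      pairDecomp B hA hef ((a, 0), y) ∧ (Fin.cons 0 x : Fin (k + 1) → V') i = y := by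
    intro i
    induction i using Fin.cases with
    | zero => exact ⟨1, 0, by simp [pairDecomp_e], by simp⟩
    | succ i => exact ⟨t i, x i, by simp [liftTup], by simp⟩
  refine ⟨?_, fun i j => ?_, fun i => Submodule.mem_top⟩
  · rw [Fintype.linearIndependent_iff]
    intro c hc
    rw [Fin.sum_univ_succ] at hc
    simp only [Fin.cons_zero, Fin.cons_succ] at hc
    have hcoord : (pairDecomp B hA hef
        ((c 0 + ∑ i : Fin k, c i.succ * t i, 0), ∑ i : Fin k, c i.succ • x i)) = 0 := by
      rw [← hc]
      simp [liftTup, pairDecomp, smul_add, sum_add_distrib, sum_smul, smul_smul, add_smul,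
        add_assoc]
    rw [LinearEquiv.map_eq_zero_iff, Prod.mk_eq_zero, Prod.mk_eq_zero] at hcoord
    have hcs : ∀ i : Fin k, c i.succ = 0 :=
      Fintype.linearIndependent_iff.1 hx1 (fun i => c i.succ) hcoord.2
    intro i
    induction i using Fin.cases with
    | zero => simpa [hcs] using hcoord.1.1
    | succ i => exact hcs i
  · obtain ⟨a, y, hi, hy⟩ := hw i
    obtain ⟨a', y', hj, hy'⟩ := hw j
    have hyy : B' y y' = 0 := by
      subst hy hy'
      induction i using Fin.cases with
      | zero => simp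
      | succ i =>
        induction j using Fin.cases with
        | zero => simp
        | succ j => simpa using hx2 i j
    rw [hi, hj, form_pairDecomp]
    simp [hyy]

/-- Isotropic tuples starting at `e`, in coordinates. -/
noncomputable def tailEquiv (k : ℕ) :
    (Fin k → F) × isoTup B' k ⊤ ≃
      {w : Fin k → V // (Fin.cons e w : Fin (k + 1) → V) ∈ isoTup B (k + 1) ⊤} := by
  refine Equiv.ofBijective (fun p => ⟨liftTup hA hef p.1 p.2.1, cons_liftTup_mem hA hef p.2.2⟩)
    ⟨?_, ?_⟩
  · rintro ⟨t, x, hx⟩ ⟨t', x', hx'⟩ h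
    have h' : ∀ i, ((t i, (0 : F)), x i) = ((t' i, 0), x' i) := fun i =>
      (pairDecomp B hA hef).injective (congrFun (congrArg Subtype.val h) i)
    refine Prod.ext (funext fun i => ?_) (Subtype.ext (funext fun i => ?_))
    · exact congrArg (fun p => p.1.1) (h' i)
    · exact congrArg (fun p => p.2) (h' i)
  · rintro ⟨w, hw1, hw2, -⟩
    let r := fun i => (pairDecomp B hA hef).symm (w i)
    have hr : ∀ i, w i = pairDecomp B hA hef (r i) := fun i =>
      ((pairDecomp B hA hef).apply_symm_apply _).symm
    have hs : ∀ i, (r i).1.2 = 0 := by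
      intro i
      have := hw2 0 i.succ
      rw [Fin.cons_zero, Fin.cons_succ, hr, form_e_left] at this
      exact this
    have hw' : ∀ i, w i = (r i).1.1 • e + ((r i).2 : V) := by
      intro i
      conv_lhs => rw [hr i]
      simp [pairDecomp, hs i]
    refine ⟨⟨fun i => (r i).1.1, ⟨fun i => (r i).2, ?_, fun i j => ?_, fun i => Submodule.mem_top⟩⟩,
      Subtype.ext (funext fun i => ?_)⟩
    · rw [Fintype.linearIndependent_iff]
      intro c hc i
      have hc' : ∑ i, c i • ((r i).2 : V) = 0 := by
        simpa using congrArg (fun x : V' => (x : V)) hc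
      have := Fintype.linearIndependent_iff.1 hw1 (Fin.cons (-∑ i, c i * (r i).1.1) c) (by
        simp [Fin.sum_univ_succ, hw', smul_add, sum_add_distrib, hc', smul_smul, sum_smul]) i.succ
      simpa using this
    · have := hw2 i.succ j.succ
      rw [Fin.cons_succ, Fin.cons_succ, hr i, hr j, form_pairDecomp, hs, hs] at this
      simpa using this
    · show pairDecomp B hA hef (((r i).1.1, 0), (r i).2) = w i
      rw [hr i]
      exact congrArg _ (Prod.ext (Prod.ext rfl (hs i).symm) rfl)

theorem coordEnd_fix {k : ℕ} (t : Fin k → F) (x : Fin k → V') (a : V') (b : F)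
    (h : Module.End F V') :
    (∀ i, coordEnd hA hef a b h ((Fin.cons e (liftTup hA hef t x) : Fin (k + 1) → V) i) =
      (Fin.cons e (liftTup hA hef t x) : Fin (k + 1) → V) i) ↔
      (∀ i, h (x i) = x i) ∧ a ∈ annih B' x := by
  constructor
  · intro H
    have H' : ∀ i, h (x i) = x i ∧ B' a (x i) = 0 := by
      intro i
      have h1 := H i.succ
      rw [Fin.cons_succ, liftTup, coordEnd_apply] at h1
      have h2 := (pairDecomp B hA hef).injective h1
      simp only [Prod.mk.injEq, zero_mul, add_zero, zero_smul, zero_add, and_true,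
        add_eq_left] at h2
      exact ⟨h2.2, h2.2 ▸ h2.1⟩
    exact ⟨fun i => (H' i).1, fun i => (H' i).2⟩
  · rintro ⟨H1, H2⟩ i
    induction i using Fin.cases with
    | zero =>
      rw [Fin.cons_zero]
      exact coordEnd_e hA hef a b h
    | succ i =>
      rw [Fin.cons_succ, liftTup, coordEnd_apply, H1, H2 i]
      simp

/-- The fixers of a tuple starting at `e`, in coordinates. -/
noncomputable def fixersEquiv {k : ℕ} (t : Fin k → F) (x : Fin k → V') :
    F × fixers B' x × annih B' x ≃
      fixers B (Fin.cons e (liftTup hA hef t x) : Fin (k + 1) → V) := by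
  refine Equiv.ofBijective (fun p => ⟨coordEnd hA hef p.2.2.1 p.1 p.2.1.1,
    ⟨coordEnd_isometry hA hef _ _ p.2.1.2.1.1, (isNilpotent_coordEnd hA hef).2 p.2.1.2.1.2⟩,
    (coordEnd_fix hA hef t x _ _ _).2 ⟨p.2.1.2.2, p.2.2.2⟩⟩) ⟨?_, ?_⟩
  · rintro ⟨b, ⟨h, hh⟩, a, ha⟩ ⟨b', ⟨h', hh'⟩, a', ha'⟩ heq
    have hP : ∀ p : (F × F) × V', coordMap a b h p = coordMap a' b' h' p := fun p => by
      have := congrArg (fun g => (pairDecomp B hA hef).symm (g.1 (pairDecomp B hA hef p))) heq
      simpa [coordEnd] using this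
    have h1 := hP ((0, 1), 0)
    have h2 := fun y => hP ((0, 0), y)
    simp [coordMap] at h1 h2
    obtain ⟨rfl, rfl⟩ := h1
    obtain rfl : h = h' := LinearMap.ext fun y => (h2 y y.2).2
    rfl
  · rintro ⟨g, ⟨hg, hg'⟩, hfix⟩
    obtain ⟨a, b, h, hh, rfl⟩ := exists_coord hA hef hg (by simpa using hfix 0)
    obtain ⟨H1, H2⟩ := (coordEnd_fix hA hef t x a b h).1 hfix
    exact ⟨(b, ⟨h, ⟨hh, (isNilpotent_coordEnd hA hef).1 hg'⟩, H1⟩, ⟨a, H2⟩), rfl⟩

include hA hef in
theorem pairPerp_nondeg (hB : B.Nondegenerate) : LinearMap.BilinForm.Nondegenerate B' := by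
  have hsep : ∀ x : V', (∀ y, B' x y = 0) → x = 0 := by
    intro x hx
    apply Subtype.ext
    apply hB.1
    intro z
    obtain ⟨p, rfl⟩ := (pairDecomp B hA hef).surjective z
    have h1 : B (x : V) e = 0 := alt_symm hA _ _ x.2.1
    have h2 : B (x : V) f = 0 := alt_symm hA _ _ x.2.2
    have h3 : B (x : V) (p.2 : V) = 0 := hx p.2
    simp [pairDecomp, h1, h2, h3]
  exact ⟨hsep, fun x hx => hsep x fun y => alt_symm (B := B') (fun z => hA _) _ _ (hx y)⟩

include hA hef in
theorem finrank_pairPerp [FiniteDimensional F V] :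
    Module.finrank F V' + 2 = Module.finrank F V := by
  have := (pairDecomp B hA hef).finrank_eq
  rw [Module.finrank_prod, Module.finrank_prod, Module.finrank_self] at this
  omega

include hA hef in
/-- The tuples through `e`, weighted by the unipotent isometries fixing them. -/
theorem card_fixed_through [Fintype F] [Finite V] [FiniteDimensional F V] (hB : B.Nondegenerate)
    (k : ℕ) :
    Nat.card (Σ w : {w : Fin k → V // (Fin.cons e w : Fin (k + 1) → V) ∈ isoTup B (k + 1) ⊤},
        fixers B (Fin.cons e w.1 : Fin (k + 1) → V)) =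
      Fintype.card F ^ (Module.finrank F V - 1) * Tcard B' k := by
  classical
  haveI : Finite (Module.End F V) := Finite.of_injective (fun g => ⇑g) DFunLike.coe_injective
  haveI : Finite (Module.End F V') := Finite.of_injective (fun g => ⇑g) DFunLike.coe_injective
  haveI := Fintype.ofFinite (isoTup B' k ⊤)
  have hA' : LinearMap.BilinForm.IsAlt B' := fun z => hA _
  rw [← Nat.card_congr (Equiv.sigmaCongr (tailEquiv hA hef k)
    (fun p => fixersEquiv hA hef p.1 p.2.1)), Nat.card_sigma]
  refine Nat.eq_of_mul_eq_mul_right (pow_pos (Fintype.card_pos (α := F)) k) ?_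
  have hd := finrank_pairPerp hA hef
  have hdim : Module.finrank F V - 1 = 1 + Module.finrank F V' := by omega
  rw [sum_mul, Tcard, Nat.card_sigma]
  calc _ = ∑ p : (Fin k → F) × isoTup B' k ⊤,
        Fintype.card F ^ (Module.finrank F V - 1) * Nat.card (fixers B' p.2.1) := by
        refine sum_congr rfl fun p _ => ?_
        rw [Nat.card_prod, Nat.card_prod, hdim, pow_add, pow_one,
          ← card_annih hA' (pairPerp_nondeg hA hef hB) p.2.2.1, Nat.card_eq_fintype_card (α := F)]
        ring
    _ = _ := by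
        rw [Fintype.sum_prod_type]
        dsimp only
        rw [sum_const, ← mul_sum, card_univ, Fintype.card_fun,
          Fintype.card_fin, smul_eq_mul]
        ring

include hA hef in
/-- Isotropic tuples through `e`. -/
theorem card_tuples_through [Fintype F] [Finite V] (k : ℕ) :
    Nat.card {w : Fin k → V // (Fin.cons e w : Fin (k + 1) → V) ∈ isoTup B (k + 1) ⊤} =
      Fintype.card F ^ k * Nat.card (isoTup B' k ⊤) := by
  rw [← Nat.card_congr (tailEquiv hA hef k), Nat.card_prod, Nat.card_fun, Nat.card_fin,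
    Nat.card_eq_fintype_card]

end pair

end CfsgLib.SpUni
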