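import Cfsg.Agent.SpUnipotentCount.Identities
import Cfsg.Agent.SpUnipotentCount.Recursion

/-!
# The number of unipotent isometries of a symplectic space

Main result: `card_unipotent_isometries`.
-/

set_option autoImplicit false
set_option linter.style.haveILetI false

namespace CfsgLib.SpUni

open Submodule Finset CfsgLib.Forms

variable {F : Type*} [Field F] [Fintype F]

local notation "qF" => (Fintype.card F : ℚ)

theorem one_lt_qF : (1 : ℚ) < qF := by exact_mod_cast Fintype.one_lt_card

variable {V : Type*} [AddCommGroup V] [Module F V] [Finite V] [FiniteDimensional F V]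

/-- Isotropic tuples split by their first entry. -/
def headEquiv (B : LinearMap.BilinForm F V) (k : ℕ) :
    (Σ e : {e : V // e ≠ 0},
      {w : Fin k → V // (Fin.cons e.1 w : Fin (k + 1) → V) ∈ isoTup B (k + 1) ⊤}) ≃
      isoTup B (k + 1) ⊤ where
  toFun p := ⟨Fin.cons p.1.1 p.2.1, p.2.2⟩
  invFun w := ⟨⟨w.1 0, w.2.1.ne_zero 0⟩, Fin.tail w.1, by rw [Fin.cons_self_tail]; exact w.2⟩
  left_inv := by
    rintro ⟨⟨e, he⟩, ⟨w, hw⟩⟩
    refine Sigma.subtype_ext (Subtype.ext ?_) ?_ <;> simp
  right_inv w := Subtype.ext (Fin.cons_self_tail _)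

omit [Fintype F] [Finite V] [FiniteDimensional F V] in
theorem exists_partner (B : LinearMap.BilinForm F V) (hB : B.Nondegenerate)
    (e : {e : V // e ≠ 0}) : ∃ f, B e.1 f = 1 := by
  obtain ⟨v, hv⟩ : ∃ v, B e.1 v ≠ 0 := by
    by_contra h
    exact e.2 (hB.1 e.1 fun v => not_not.1 fun hv => h ⟨v, hv⟩)
  exact ⟨(B e.1 v)⁻¹ • v, by simp [hv]⟩

theorem card_nonzero [Fintype {e : V // e ≠ 0}] :
    ((univ : Finset {e : V // e ≠ 0}).card : ℚ) = qF ^ Module.finrank F V - 1 := by
  classical
  have h := Nat.card_congr (Equiv.sumCompl fun e : V => e = 0)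
  rw [Nat.card_sum, Nat.card_unique, Module.natCard_eq_pow_finrank (K := F) (V := V),
    Nat.card_eq_fintype_card (α := F)] at h
  have h' := congrArg (fun n : ℕ => (n : ℚ)) h
  push_cast at h'
  rw [← h', card_univ, ← Nat.card_eq_fintype_card]
  ring

/-- The weighted numbers of isotropic tuples. -/
theorem ck_isoTup_top (B : LinearMap.BilinForm F V) (hA : B.IsAlt) (hB : B.Nondegenerate) {m : ℕ}
    (hm : Module.finrank F V = 2 * m) (k : ℕ) :
    ck qF k * (Nat.card (isoTup B k ⊤) : ℚ) = qF ^ k.choose 2 * Dk qF k m := by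
  induction m generalizing V k with
  | zero =>
    rcases k with _ | k
    · rw [card_isoTup_zero]
      simp [ck, Dk_zero]
    · have : IsEmpty (isoTup B (k + 1) ⊤) := by
        rw [isoTup_eq_empty B (by omega)]; infer_instance
      simp [Dk_eq_zero]
  | succ m ih =>
    rcases k with _ | k
    · rw [card_isoTup_zero]
      simp [ck, Dk_zero]
    classical
    haveI := Fintype.ofFinite {e : V // e ≠ 0}
    choose f hf using exists_partner B hB
    rw [← Nat.card_congr (headEquiv B k), Nat.card_sigma, ck_succ, choose_two_succ, Dk_succ_succ,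
      Nat.cast_sum, mul_sum]
    rw [sum_congr rfl (g := fun _ => -(1 / (qF ^ (k + 1) - 1)) * qF ^ k *
      (qF ^ k.choose 2 * Dk qF k m)) fun e _ => ?_, sum_const, nsmul_eq_mul, card_nonzero (F := F), hm]
    · ring
    · have hd := finrank_pairPerp hA (hf e)
      rw [← ih (restrictForm B (pairPerp B e.1 (f e))) (fun z => hA _)
        (pairPerp_nondeg hA (hf e) hB) (by omega) k, card_tuples_through hA (hf e)]
      push_cast
      ring

/-- Pairs of an isometry and a fixed tuple, sorted by the isometry. -/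
def swapEquiv (B : LinearMap.BilinForm F V) (k : ℕ) :
    (Σ w : isoTup B k ⊤, fixers B w.1) ≃
      Σ g : fixers B (![] : Fin 0 → V), isoTup B k (LinearMap.ker (g.1 - 1)) where
  toFun p := ⟨⟨p.2.1, p.2.2.1, fun i => i.elim0⟩, p.1.1, p.1.2.1, p.1.2.2.1, fun i => by
    simp [p.2.2.2 i]⟩
  invFun p := ⟨⟨p.2.1, p.2.2.1, p.2.2.2.1, fun _ => Submodule.mem_top⟩, p.1.1, p.1.2.1, fun i => by
    simpa [sub_eq_zero] using p.2.2.2.2 i⟩
  left_inv _ := rfl
  right_inv _ := rfl

omit [Fintype F] [Finite V] [FiniteDimensional F V] in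
/-- A unipotent isometry other than `1` fixes a vector orthogonal to all its fixed vectors. -/
theorem exists_radical_fixed (B : LinearMap.BilinForm F V) {g : Module.End F V}
    (hg : ∀ u v, B (g u) (g v) = B u v) (hn : IsNilpotent (g - 1)) (h1 : g ≠ 1) :
    ∃ z, z ≠ 0 ∧ z ∈ LinearMap.ker (g - 1) ∧ ∀ w ∈ LinearMap.ker (g - 1), B z w = 0 := by
  classical
  have h : ∃ d, (g - 1) ^ d = 0 := hn
  have hd : (g - 1) ^ Nat.find h = 0 := Nat.find_spec h
  have hpow : ∀ j, j + 2 ≤ Nat.find h → (g - 1) ^ (j + 1) ≠ 0 := fun j hj =>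
    Nat.find_min h (by omega)
  have h2 : 2 ≤ Nat.find h := by
    by_contra hlt
    refine h1 (sub_eq_zero.1 ?_)
    rcases (show Nat.find h = 0 ∨ Nat.find h = 1 by omega) with h0 | h0
    · rw [h0, pow_zero] at hd
      rw [← mul_one (g - 1), hd, mul_zero]
    · rwa [h0, pow_one] at hd
  obtain ⟨j, hj⟩ : ∃ j, Nat.find h = j + 2 := ⟨Nat.find h - 2, by omega⟩
  rw [hj] at hd
  obtain ⟨x, hx⟩ : ∃ x, ((g - 1) ^ (j + 1)) x ≠ 0 := by
    by_contra hall
    exact hpow j (by omega) (LinearMap.ext fun x => not_not.1 fun hx => hall ⟨x, hx⟩)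
  refine ⟨((g - 1) ^ (j + 1)) x, hx, ?_, fun w hw => ?_⟩
  · rw [LinearMap.mem_ker, ← Module.End.mul_apply, ← pow_succ', hd, LinearMap.zero_apply]
  · have hgw : g w = w := by simpa [sub_eq_zero] using hw
    have h3 := hg (((g - 1) ^ j) x) w
    rw [hgw] at h3
    rw [pow_succ', Module.End.mul_apply, LinearMap.sub_apply, Module.End.one_apply, map_sub,
      LinearMap.sub_apply, h3, sub_self]

/-- The alternating sum of pair counts equals that of tuple counts. -/
theorem sum_ck_Tcard (B : LinearMap.BilinForm F V) (hA : B.IsAlt) {N : ℕ}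
    (hN : Module.finrank F V < N) :
    ∑ k ∈ range (N + 1), ck qF k * (Tcard B k : ℚ) =
      ∑ k ∈ range (N + 1), ck qF k * (Nat.card (isoTup B k ⊤) : ℚ) := by
  classical
  haveI : Finite (Module.End F V) := Finite.of_injective (fun g => ⇑g) DFunLike.coe_injective
  haveI := Fintype.ofFinite (fixers B (![] : Fin 0 → V))
  simp only [Tcard, Nat.card_congr (swapEquiv B _), Nat.card_sigma, Nat.cast_sum, mul_sum]
  rw [sum_comm, sum_eq_single (⟨1, ⟨fun u v => rfl, by simp⟩, fun i => i.elim0⟩ :
    fixers B (![] : Fin 0 → V))]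
  · refine sum_congr rfl fun k _ => ?_
    rw [sub_self, LinearMap.ker_zero]
  · intro g _ hg
    obtain ⟨z, hz0, hzW, hz⟩ := exists_radical_fixed B g.2.1.1 g.2.1.2 fun h => hg (Subtype.ext h)
    exact sum_ck_isoTup B hA hz0 hzW hz hN
  · intro h
    exact absurd (mem_univ _) h

/-- The weighted numbers of pairs of a unipotent isometry and a fixed isotropic tuple. -/
theorem ck_Tcard (B : LinearMap.BilinForm F V) (hA : B.IsAlt) (hB : B.Nondegenerate) {m : ℕ}
    (hm : Module.finrank F V = 2 * m) (k : ℕ) :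
    ck qF k * (Tcard B k : ℚ) = Dk qF k m * qF ^ (m ^ 2 + (m - k) ^ 2) := by
  induction m using Nat.strong_induction_on generalizing V k with
  | _ m ih =>
    classical
    have hsucc : ∀ k, ck qF (k + 1) * (Tcard B (k + 1) : ℚ) =
        Dk qF (k + 1) m * qF ^ (m ^ 2 + (m - (k + 1)) ^ 2) := by
      intro k
      rcases m with _ | m
      · have : IsEmpty (isoTup B (k + 1) ⊤) := by
          rw [isoTup_eq_empty B (by omega)]; infer_instance
        simp [Tcard, Dk_eq_zero]
      haveI := Fintype.ofFinite {e : V // e ≠ 0}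
      haveI : Finite (Module.End F V) := Finite.of_injective (fun g => ⇑g) DFunLike.coe_injective
      choose f hf using exists_partner B hB
      have hT : Tcard B (k + 1) = ∑ e : {e : V // e ≠ 0},
          Nat.card (Σ w : {w : Fin k → V // (Fin.cons e.1 w : Fin (k + 1) → V) ∈
            isoTup B (k + 1) ⊤}, fixers B (Fin.cons e.1 w.1 : Fin (k + 1) → V)) := by
        rw [Tcard, ← Nat.card_sigma]
        exact (Nat.card_congr (Equiv.sigmaCongrLeft (headEquiv B k))).symm.trans
          (Nat.card_congr (Equiv.sigmaAssoc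
            fun (e : {e : V // e ≠ 0}) (w : {w : Fin k → V //
              (Fin.cons e.1 w : Fin (k + 1) → V) ∈ isoTup B (k + 1) ⊤}) =>
              fixers B (Fin.cons e.1 w.1 : Fin (k + 1) → V)))
      rw [hT, ck_succ, Dk_succ_succ, Nat.cast_sum, mul_sum]
      rw [sum_congr rfl (g := fun _ => -(1 / (qF ^ (k + 1) - 1)) * qF ^ (2 * m + 1) *
        (Dk qF k m * qF ^ (m ^ 2 + (m - k) ^ 2))) fun e _ => ?_, sum_const, nsmul_eq_mul,
        card_nonzero (F := F), hm, Nat.add_sub_add_right,
        show (m + 1) ^ 2 = (2 * m + 1) + m ^ 2 by ring, add_assoc (2 * m + 1), pow_add _ (2 * m + 1)]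
      · ring
      · have hd := finrank_pairPerp hA (hf e)
        rw [← ih m (Nat.lt_succ_self m) (restrictForm B (pairPerp B e.1 (f e))) (fun z => hA _)
          (pairPerp_nondeg hA (hf e) hB) (by omega) k, card_fixed_through hA (hf e) hB, hm,
          show 2 * (m + 1) - 1 = 2 * m + 1 by omega]
        push_cast
        ring
    rcases k with _ | k
    swap
    · exact hsucc k
    have hq := one_lt_qF (F := F)
    have hN : Module.finrank F V < 2 * m + 1 := by omega
    have hsum := sum_ck_Tcard B hA hN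
    rw [sum_congr rfl fun k _ => ck_isoTup_top B hA hB hm k, sum_range_succ',
      sum_congr rfl fun k _ => hsucc k] at hsum
    have hbig : ∀ g : ℕ → ℚ, ∑ k ∈ range (2 * m + 1 + 1), g k * Dk qF k m =
        ∑ k ∈ range (m + 1), g k * Dk qF k m := fun g =>
      (sum_subset (range_subset_range.2 (by omega)) fun k _ hk => by
        rw [Dk_eq_zero (by simp at hk; omega), mul_zero]).symm
    have hB' : ∑ k ∈ range (2 * m + 1), Dk qF (k + 1) m * qF ^ (m ^ 2 + (m - (k + 1)) ^ 2) =
        qF ^ m ^ 2 * (-1) ^ m - qF ^ (m ^ 2 + m ^ 2) := by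
      have h1 := hbig fun k => qF ^ (m - k) ^ 2
      rw [sum_range_succ'] at h1
      simp only [Dk_zero, mul_one, Nat.sub_zero] at h1
      rw [← (sumB_eq hq m).1, sum_congr rfl fun k _ => show
        Dk qF (k + 1) m * qF ^ (m ^ 2 + (m - (k + 1)) ^ 2) =
          qF ^ m ^ 2 * (qF ^ (m - (k + 1)) ^ 2 * Dk qF (k + 1) m) by rw [pow_add]; ring, ← mul_sum]
      unfold sumB
      rw [← h1, pow_add]
      ring
    rw [hbig fun k => qF ^ k.choose 2, show ∑ k ∈ range (m + 1), qF ^ k.choose 2 * Dk qF k m =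
      sumA qF m from rfl, (sumA_eq hq m).1, hB'] at hsum
    simp only [Nat.sub_zero, Dk_zero, one_mul]
    linear_combination hsum

theorem card_unipotent_isometries (B : LinearMap.BilinForm F V) (hA : B.IsAlt)
    (hB : B.Nondegenerate) {m : ℕ} (hm : Module.finrank F V = 2 * m) :
    Nat.card (fixers B (![] : Fin 0 → V)) = Fintype.card F ^ (2 * m ^ 2) := by
  haveI : Finite (Module.End F V) := Finite.of_injective (fun g => ⇑g) DFunLike.coe_injective
  have h := ck_Tcard B hA hB hm 0
  simp only [ck, range_zero, prod_empty, one_mul, Dk_zero, Nat.sub_zero, ← two_mul] at h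
  have hT : Tcard B 0 = Nat.card (fixers B (![] : Fin 0 → V)) := by
    classical
    haveI := Fintype.ofFinite (fixers B (![] : Fin 0 → V))
    rw [Tcard, Nat.card_congr (swapEquiv B 0), Nat.card_sigma]
    rw [sum_congr rfl fun g _ => card_isoTup_zero B _, sum_const, card_univ, smul_eq_mul, mul_one,
      Nat.card_eq_fintype_card]
  rw [← hT]
  exact_mod_cast h

end CfsgLib.SpUni
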