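import Mathlib

/-!
# The q-identities behind the count of unipotent elements of symplectic groups

`Dk q k m` is `(-1)^k ∏_{i<k} (q^(2(m-i))-1)/(q^(i+1)-1)`; the weighted sums of it over `k`
needed for Steinberg's count are evaluated here.
-/

set_option autoImplicit false

namespace CfsgLib.SpUni

open Finset

/-- The signed coefficient. -/
def Dk (q : ℚ) (k m : ℕ) : ℚ :=
  ∏ i ∈ range k, (-((q ^ (2 * (m - i)) - 1) / (q ^ (i + 1) - 1)))

variable {q : ℚ}

theorem Dk_zero (m : ℕ) : Dk q 0 m = 1 := by simp [Dk]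

theorem Dk_succ (k m : ℕ) :
    Dk q (k + 1) m = Dk q k m * -((q ^ (2 * (m - k)) - 1) / (q ^ (k + 1) - 1)) :=
  prod_range_succ _ _

theorem Dk_eq_zero {k m : ℕ} (h : m < k) : Dk q k m = 0 :=
  prod_eq_zero (mem_range.2 h) (by simp)

theorem Dk_succ_succ (k m : ℕ) :
    Dk q (k + 1) (m + 1) = -((q ^ (2 * (m + 1)) - 1) / (q ^ (k + 1) - 1)) * Dk q k m := by
  induction k with
  | zero => simp [Dk]
  | succ k ih =>
    rw [Dk_succ (k + 1) (m + 1), ih, Dk_succ k m, Nat.add_sub_add_right]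
    ring

theorem pow_succ_sub_one_ne (hq : 1 < q) (k : ℕ) : q ^ (k + 1) - 1 ≠ 0 :=
  sub_ne_zero.2 (one_lt_pow₀ hq (Nat.succ_ne_zero k)).ne'

theorem Dk_rec_one (hq : 1 < q) (k m : ℕ) :
    Dk q (k + 1) (m + 1) = q ^ (2 * (k + 1)) * Dk q (k + 1) m - (q ^ (k + 1) + 1) * Dk q k m := by
  rcases lt_or_ge m k with h | h
  · rw [Dk_succ_succ, Dk_succ k m, Dk_eq_zero h]
    ring
  obtain ⟨j, rfl⟩ := Nat.exists_eq_add_of_le h
  rw [Dk_succ_succ, Dk_succ k, Nat.add_sub_cancel_left]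
  have := pow_succ_sub_one_ne hq k
  field_simp
  ring

theorem Dk_rec_two (hq : 1 < q) (k m : ℕ) :
    Dk q (k + 1) (m + 1) = Dk q (k + 1) m - q ^ (2 * (m - k)) * (q ^ (k + 1) + 1) * Dk q k m := by
  rcases lt_or_ge m k with h | h
  · rw [Dk_succ_succ, Dk_succ k m, Dk_eq_zero h]
    ring
  obtain ⟨j, rfl⟩ := Nat.exists_eq_add_of_le h
  rw [Dk_succ_succ, Dk_succ k, Nat.add_sub_cancel_left]
  have := pow_succ_sub_one_ne hq k
  field_simp
  ring

/-- `∑_{k ≤ m} g k m` in terms of the shifted sum. -/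
theorem sum_shift (g : ℕ → ℚ) (m : ℕ) :
    ∑ k ∈ range (m + 1), g k * Dk q k m =
      g 0 + ∑ k ∈ range (m + 1), g (k + 1) * Dk q (k + 1) m := by
  have h := sum_range_succ' (fun k => g k * Dk q k m) (m + 1)
  rw [sum_range_succ] at h
  simp only [Dk_eq_zero (Nat.lt_succ_self m), Dk_zero, mul_zero, add_zero, mul_one] at h
  rw [h, add_comm]

/-- First sum. -/
def sumA (q : ℚ) (m : ℕ) : ℚ := ∑ k ∈ range (m + 1), q ^ k.choose 2 * Dk q k m
/-- First sum, with weights shifted. -/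
def sumA' (q : ℚ) (m : ℕ) : ℚ := ∑ k ∈ range (m + 1), q ^ k.choose 2 / q ^ k * Dk q k m
/-- Second sum. -/
def sumB (q : ℚ) (m : ℕ) : ℚ := ∑ k ∈ range (m + 1), q ^ (m - k) ^ 2 * Dk q k m
/-- Second sum, with weights shifted. -/
def sumB' (q : ℚ) (m : ℕ) : ℚ := ∑ k ∈ range (m + 1), q ^ ((m - k) ^ 2 + k) * Dk q k m

theorem choose_two_succ (k : ℕ) : (k + 1).choose 2 = k.choose 2 + k := by
  rw [Nat.choose_succ_succ', Nat.choose_one_right]; ring

theorem sumA_succ (hq : 1 < q) (m : ℕ) :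
    sumA q (m + 1) = (1 - q ^ (2 * m + 1)) * sumA q m - q ^ (2 * m) * sumA' q m := by
  have hq0 : q ≠ 0 := by intro h; rw [h] at hq; norm_num at hq
  have hA := sum_shift (q := q) (fun k => q ^ k.choose 2) m
  unfold sumA sumA'
  rw [sum_range_succ' _ (m + 1), Dk_zero, mul_one]
  have key : ∀ k ∈ range (m + 1), q ^ (k + 1).choose 2 * Dk q (k + 1) (m + 1) =
      q ^ (k + 1).choose 2 * Dk q (k + 1) m - q ^ (2 * m + 1) * (q ^ k.choose 2 * Dk q k m)
        - q ^ (2 * m) * (q ^ k.choose 2 / q ^ k * Dk q k m) := by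
    intro k hk
    obtain ⟨j, rfl⟩ := Nat.exists_eq_add_of_le (Nat.lt_succ_iff.1 (mem_range.1 hk))
    rw [Dk_rec_two hq, Nat.add_sub_cancel_left, choose_two_succ]
    field_simp
    ring
  rw [sum_congr rfl key, sum_sub_distrib, sum_sub_distrib, ← mul_sum, ← mul_sum]
  linear_combination -hA

theorem sumA'_succ (hq : 1 < q) (m : ℕ) : sumA' q (m + 1) = -(sumA q m / q) := by
  have hq0 : q ≠ 0 := by intro h; rw [h] at hq; norm_num at hq
  have hA := sum_shift (q := q) (fun k => q ^ k.choose 2 * q ^ k) m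
  unfold sumA sumA'
  rw [sum_range_succ' _ (m + 1), Dk_zero, mul_one]
  have key : ∀ k ∈ range (m + 1), q ^ (k + 1).choose 2 / q ^ (k + 1) * Dk q (k + 1) (m + 1) =
      q ^ (k + 1).choose 2 * q ^ (k + 1) * Dk q (k + 1) m
        - q ^ k.choose 2 * q ^ k * Dk q k m - q ^ k.choose 2 * Dk q k m / q := by
    intro k _
    rw [Dk_rec_one hq, choose_two_succ]
    field_simp
    ring
  rw [sum_congr rfl key, sum_sub_distrib, sum_sub_distrib, ← sum_div]
  norm_num at hA ⊢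
  linear_combination -hA

theorem sumA_eq (hq : 1 < q) (m : ℕ) :
    sumA q m = (-1) ^ m * q ^ m ^ 2 ∧ sumA' q m = (-1) ^ m * q ^ m ^ 2 / q ^ (2 * m) := by
  have hq0 : q ≠ 0 := by intro h; rw [h] at hq; norm_num at hq
  induction m with
  | zero => simp [sumA, sumA', Dk_zero]
  | succ m ih =>
    rw [sumA_succ hq, sumA'_succ hq, ih.1, ih.2,
      show (m + 1) ^ 2 = m ^ 2 + (2 * m + 1) by ring]
    constructor <;> · field_simp; ring

theorem sumB_succ (hq : 1 < q) (m : ℕ) :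
    sumB q (m + 1) = (q ^ (2 * m + 1) - 1) * sumB q m - q * sumB' q m := by
  have hB := sum_shift (q := q) (fun k => q ^ (m - k) ^ 2) m
  unfold sumB sumB'
  rw [sum_range_succ' _ (m + 1), Dk_zero, mul_one]
  have key : ∀ k ∈ range (m + 1), q ^ (m + 1 - (k + 1)) ^ 2 * Dk q (k + 1) (m + 1) =
      q ^ (2 * m + 1) * (q ^ (m - (k + 1)) ^ 2 * Dk q (k + 1) m)
        - q * (q ^ ((m - k) ^ 2 + k) * Dk q k m) - q ^ (m - k) ^ 2 * Dk q k m := by
    intro k hk
    rw [Dk_rec_one hq, Nat.add_sub_add_right]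
    rcases eq_or_lt_of_le (Nat.lt_succ_iff.1 (mem_range.1 hk)) with rfl | hlt
    · rw [Dk_eq_zero (Nat.lt_succ_self k)]
      ring
    obtain ⟨j, rfl⟩ := Nat.exists_eq_add_of_le (show k + 1 ≤ m from hlt)
    rw [Nat.add_sub_cancel_left, show k + 1 + j - k = j + 1 by omega]
    ring
  rw [sum_congr rfl key, sum_sub_distrib, sum_sub_distrib, ← mul_sum, ← mul_sum, Nat.sub_zero,
    show (m + 1) ^ 2 = m ^ 2 + (2 * m + 1) by ring, pow_add]
  simp only [Nat.sub_zero] at hB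
  linear_combination -(q ^ (2 * m + 1)) * hB

theorem sumB'_succ (hq : 1 < q) (m : ℕ) :
    sumB' q (m + 1) = -(q ^ (2 * m + 2) * sumB q m) := by
  have hq0 : q ≠ 0 := by intro h; rw [h] at hq; norm_num at hq
  have hB := sum_shift (q := q) (fun k => q ^ (m - k) ^ 2 / q ^ k) m
  unfold sumB sumB'
  rw [sum_range_succ' _ (m + 1), Dk_zero, mul_one]
  have key : ∀ k ∈ range (m + 1),
      q ^ ((m + 1 - (k + 1)) ^ 2 + (k + 1)) * Dk q (k + 1) (m + 1) =
      q ^ (2 * m + 1) * (q ^ (m - (k + 1)) ^ 2 / q ^ (k + 1) * Dk q (k + 1) m)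
        - q ^ (2 * m + 2) * (q ^ (m - k) ^ 2 * Dk q k m)
        - q ^ (2 * m + 1) * (q ^ (m - k) ^ 2 / q ^ k * Dk q k m) := by
    intro k hk
    rw [Dk_rec_two hq, Nat.add_sub_add_right]
    rcases eq_or_lt_of_le (Nat.lt_succ_iff.1 (mem_range.1 hk)) with rfl | hlt
    · rw [Dk_eq_zero (Nat.lt_succ_self k), Nat.sub_self]
      field_simp
      ring
    obtain ⟨j, rfl⟩ := Nat.exists_eq_add_of_le (show k + 1 ≤ m from hlt)
    rw [Nat.add_sub_cancel_left, show k + 1 + j - k = j + 1 by omega]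
    field_simp
    ring
  rw [sum_congr rfl key, sum_sub_distrib, sum_sub_distrib, ← mul_sum, ← mul_sum, ← mul_sum,
    Nat.sub_zero, Nat.add_zero, show (m + 1) ^ 2 = m ^ 2 + (2 * m + 1) by ring, pow_add]
  simp only [Nat.sub_zero, pow_zero, div_one] at hB
  linear_combination -(q ^ (2 * m + 1)) * hB

theorem sumB_eq (hq : 1 < q) (m : ℕ) :
    sumB q m = (-1) ^ m ∧ sumB' q m = (-1) ^ m * q ^ (2 * m) := by
  induction m with
  | zero => simp [sumB, sumB', Dk_zero]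
  | succ m ih =>
    rw [sumB_succ hq, sumB'_succ hq, ih.1, ih.2]
    constructor <;> ring

end CfsgLib.SpUni
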