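import Mathlib

/-!
# Alternating sums over linearly independent isotropic tuples

For a subspace `W` with a non-zero vector orthogonal to all of `W`, the weighted alternating sum of
the numbers of linearly independent isotropic tuples in `W` vanishes.
-/

set_option autoImplicit false

namespace CfsgLib.SpUni

open Submodule Finset

variable {F V : Type*} [Field F] [AddCommGroup V] [Module F V]

/-- Linearly independent tuples in `W` spanning totally isotropic subspaces. -/
def isoTup (B : LinearMap.BilinForm F V) (k : ℕ) (W : Submodule F V) : Set (Fin k → V) :=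
  {w | LinearIndependent F w ∧ (∀ i j, B (w i) (w j) = 0) ∧ ∀ i, w i ∈ W}

/-- The weight `(-1)^k / ∏_{i<k} (q^(i+1)-1)`. -/
def ck (q : ℚ) (k : ℕ) : ℚ := ∏ i ∈ range k, (-(1 / (q ^ (i + 1) - 1)))

theorem ck_succ (q : ℚ) (k : ℕ) : ck q (k + 1) = ck q k * -(1 / (q ^ (k + 1) - 1)) :=
  prod_range_succ _ _

variable (B : LinearMap.BilinForm F V)

theorem isoTup_eq_empty [FiniteDimensional F V] {k : ℕ} (h : Module.finrank F V < k)
    (W : Submodule F V) : isoTup B k W = ∅ :=
  Set.eq_empty_of_forall_notMem fun w hw => by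
    have := hw.1.fintype_card_le_finrank
    rw [Fintype.card_fin] at this
    omega

theorem card_isoTup_zero (W : Submodule F V) : Nat.card (isoTup B 0 W) = 1 := by
  have : isoTup B 0 W = Set.univ :=
    Set.eq_univ_of_forall fun w => ⟨linearIndependent_empty_type, fun i => i.elim0, fun i => i.elim0⟩
  rw [this, Nat.card_congr (Equiv.Set.univ _), Nat.card_unique]

theorem indep_of_mem_span {k : ℕ} {w : Fin (k + 1) → V} {z : V} {y : Fin (k + 1) → F}
    {i₀ : Fin (k + 1)} (hsum : ∑ i, y i • w i = z)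
    (hw : LinearIndependent F (w ∘ i₀.succAbove))
    (hz : z ∉ span F (Set.range (w ∘ i₀.succAbove))) : LinearIndependent F w := by
  rw [Fintype.linearIndependent_iff]
  intro a ha
  have hmem : ∀ b : Fin k → F, (∑ j, b j • w (i₀.succAbove j)) ∈
      span F (Set.range (w ∘ i₀.succAbove)) :=
    fun b => sum_mem fun j _ => smul_mem _ _ (subset_span ⟨j, rfl⟩)
  rw [Fin.sum_univ_succAbove _ i₀] at ha hsum
  have h0 : a i₀ = 0 := by
    by_contra h
    have hv : w i₀ ∈ span F (Set.range (w ∘ i₀.succAbove)) := by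
      rw [← inv_smul_smul₀ h (w i₀), eq_neg_of_add_eq_zero_left ha]
      exact smul_mem _ _ (neg_mem (hmem _))
    exact hz (hsum ▸ add_mem (smul_mem _ _ hv) (hmem _))
  rw [h0, zero_smul, zero_add] at ha
  intro i
  induction i using Fin.succAboveCases i₀ with
  | x => exact h0
  | p j => exact Fintype.linearIndependent_iff.1 hw _ ha j

variable [Fintype F] [Finite V]

omit [Finite V] in
/-- Tuples whose span contains `z`. -/
theorem card_isoTup_mem (hA : B.IsAlt) {W : Submodule F V} {z : V} (hz0 : z ≠ 0) (hzW : z ∈ W)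
    (hz : ∀ w ∈ W, B z w = 0) (k : ℕ) :
    Nat.card {w : isoTup B (k + 1) W // z ∈ span F (Set.range w.1)} =
      (Fintype.card F ^ (k + 1) - 1) *
        Nat.card {w : isoTup B k W // z ∉ span F (Set.range w.1)} := by
  classical
  have hex : ∀ y : {y : Fin (k + 1) → F // y ≠ 0}, ∃ i, y.1 i ≠ 0 := fun y => by
    by_contra h
    exact y.2 (funext fun i => not_not.1 fun hi => h ⟨i, hi⟩)
  choose i₀ hi₀ using hex
  let ins : {y : Fin (k + 1) → F // y ≠ 0} → (Fin k → V) → Fin (k + 1) → V := fun y w =>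
    (i₀ y).insertNth ((y.1 (i₀ y))⁻¹ • (z - ∑ j, y.1 ((i₀ y).succAbove j) • w j)) w
  have hcomp : ∀ y w, ins y w ∘ (i₀ y).succAbove = w := fun y w =>
    funext fun j => by simp [ins]
  have hsum : ∀ y w, ∑ i, y.1 i • ins y w i = z := fun y w => by
    rw [Fin.sum_univ_succAbove _ (i₀ y)]
    simp [ins, smul_inv_smul₀ (hi₀ y)]
  have hmem : ∀ y (w : {w : isoTup B k W // z ∉ span F (Set.range w.1)}),
      ins y w.1.1 ∈ isoTup B (k + 1) W ∧ z ∈ span F (Set.range (ins y w.1.1)) := by
    rintro y ⟨⟨w, hw1, hw2, hw3⟩, hw4⟩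
    refine ⟨⟨indep_of_mem_span (hsum y w) (by rw [hcomp]; exact hw1)
      (by rw [hcomp]; exact hw4), ?_, ?_⟩, ?_⟩
    · have hzw : ∀ j, B z (w j) = 0 := fun j => hz _ (hw3 j)
      have hwz : ∀ j, B (w j) z = 0 := fun j => by
        rw [← LinearMap.IsAlt.neg hA z (w j), hzw j, neg_zero]
      intro i i'
      induction i using Fin.succAboveCases (i₀ y) with
      | x =>
        induction i' using Fin.succAboveCases (i₀ y) with
        | x => exact hA _
        | p j' => simp [ins, map_sum, hw2, hzw]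
      | p j =>
        induction i' using Fin.succAboveCases (i₀ y) with
        | x => simp [ins, map_sum, hw2, hwz]
        | p j' => simp [ins, hw2]
    · intro i
      induction i using Fin.succAboveCases (i₀ y) with
      | x =>
        simp only [ins, Fin.insertNth_apply_same]
        exact smul_mem _ _ (sub_mem hzW (sum_mem fun j _ => smul_mem _ _ (hw3 j)))
      | p j => simp [ins, hw3]
    · exact (Submodule.mem_span_range_iff_exists_fun F).2 ⟨y.1, hsum y w⟩
  let Φ : {y : Fin (k + 1) → F // y ≠ 0} × {w : isoTup B k W // z ∉ span F (Set.range w.1)} →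
      {w : isoTup B (k + 1) W // z ∈ span F (Set.range w.1)} :=
    fun p => ⟨⟨ins p.1 p.2.1.1, (hmem p.1 p.2).1⟩, (hmem p.1 p.2).2⟩
  have hbij : Function.Bijective Φ := by
    constructor
    · rintro ⟨y, w⟩ ⟨y', w'⟩ h
      have h' : ins y w.1.1 = ins y' w'.1.1 := congrArg (fun v => v.1.1) h
      obtain rfl : y = y' := by
        apply Subtype.ext
        have hli := (hmem y w).1.1
        rw [Fintype.linearIndependent_iff] at hli
        funext i
        refine sub_eq_zero.1 (hli (y.1 - y'.1) ?_ i)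
        have h2 := hsum y' w'.1.1
        rw [← h'] at h2
        simp [sub_smul, sum_sub_distrib, hsum, h2]
      refine Prod.ext rfl (Subtype.ext (Subtype.ext ?_))
      rw [← hcomp y w.1.1, ← hcomp y w'.1.1, h']
    · rintro ⟨⟨v, hv1, hv2, hv3⟩, hv4⟩
      obtain ⟨y, hy⟩ := (Submodule.mem_span_range_iff_exists_fun F).1 hv4
      have hy0 : y ≠ 0 := fun h => hz0 (by rw [← hy, h]; simp)
      let y' : {y : Fin (k + 1) → F // y ≠ 0} := ⟨y, hy0⟩
      have hav : z ∉ span F (Set.range (v ∘ (i₀ y').succAbove)) := by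
        intro hmem'
        obtain ⟨a, ha⟩ := (Submodule.mem_span_range_iff_exists_fun F).1 hmem'
        rw [Fintype.linearIndependent_iff] at hv1
        have := hv1 (y - (i₀ y').insertNth 0 a) (by
          simp only [Pi.sub_apply, sub_smul, sum_sub_distrib, hy]
          rw [Fin.sum_univ_succAbove _ (i₀ y')]
          simpa [sub_eq_zero] using ha.symm) (i₀ y')
        simp only [Pi.sub_apply, Fin.insertNth_apply_same, sub_zero] at this
        exact hi₀ y' this
      refine ⟨⟨y', ⟨⟨v ∘ (i₀ y').succAbove, hv1.comp _ Fin.succAbove_right_injective,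
        fun i j => hv2 _ _, fun i => hv3 _⟩, hav⟩⟩, Subtype.ext (Subtype.ext ?_)⟩
      funext i
      induction i using Fin.succAboveCases (i₀ y') with
      | x =>
        show ins y' (v ∘ (i₀ y').succAbove) (i₀ y') = v (i₀ y')
        rw [Fin.sum_univ_succAbove _ (i₀ y')] at hy
        simp only [ins, Fin.insertNth_apply_same, Function.comp_apply]
        rw [inv_smul_eq_iff₀ (hi₀ y'), ← hy]
        simp [y']
      | p j =>
        show ins y' (v ∘ (i₀ y').succAbove) ((i₀ y').succAbove j) = _
        simp [ins]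
  rw [← Nat.card_congr (Equiv.ofBijective Φ hbij), Nat.card_prod]
  congr 1
  have e := Nat.card_congr (Equiv.sumCompl fun y : Fin (k + 1) → F => y = 0)
  rw [Nat.card_sum, Nat.card_unique, Nat.card_fun, Nat.card_fin, Nat.card_eq_fintype_card (α := F)] at e
  rw [← e, Nat.add_sub_cancel_left]

/-- Vanishing of the alternating sum. -/
theorem sum_ck_isoTup [FiniteDimensional F V] (hA : B.IsAlt) {W : Submodule F V} {z : V}
    (hz0 : z ≠ 0) (hzW : z ∈ W) (hz : ∀ w ∈ W, B z w = 0) {N : ℕ}
    (hN : Module.finrank F V < N) :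
    ∑ k ∈ range (N + 1), ck (Fintype.card F : ℚ) k * (Nat.card (isoTup B k W) : ℚ) = 0 := by
  classical
  set q : ℚ := (Fintype.card F : ℚ) with hq
  let Q : ℕ → ℚ := fun k =>
    (Nat.card {w : isoTup B k W // z ∉ span F (Set.range w.1)} : ℚ)
  have hQ0 : Q 0 = 1 := by
    have h : ∀ w : isoTup B 0 W, z ∉ span F (Set.range w.1) := fun w => by
      simpa [Set.range_eq_empty] using hz0
    simp only [Q, Nat.card_congr (Equiv.subtypeUnivEquiv h), card_isoTup_zero, Nat.cast_one]
  have hQN : Q N = 0 := by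
    have : IsEmpty (isoTup B N W) := by rw [isoTup_eq_empty B hN]; infer_instance
    simp [Q]
  have hrec : ∀ k, ck q (k + 1) * (Nat.card (isoTup B (k + 1) W) : ℚ) =
      ck q (k + 1) * Q (k + 1) - ck q k * Q k := by
    intro k
    have hsplit := Nat.card_congr
      (Equiv.sumCompl fun w : isoTup B (k + 1) W => z ∈ span F (Set.range w.1))
    rw [Nat.card_sum, card_isoTup_mem B hA hz0 hzW hz k] at hsplit
    have h1 : 1 ≤ Fintype.card F ^ (k + 1) := Nat.one_le_pow _ _ Fintype.card_pos
    have hne : q ^ (k + 1) - 1 ≠ 0 := sub_ne_zero.2 (one_lt_pow₀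
      (by rw [hq]; exact_mod_cast Fintype.one_lt_card) (Nat.succ_ne_zero k)).ne'
    rw [← hsplit, ck_succ]
    simp only [Q, Nat.cast_add, Nat.cast_mul, Nat.cast_sub h1, Nat.cast_pow, Nat.cast_one, ← hq]
    field_simp
    ring
  rw [sum_range_succ', sum_congr rfl fun k _ => hrec k,
    sum_range_sub (fun k => ck q k * Q k) N]
  rw [card_isoTup_zero]
  simp [hQN, hQ0, ck]

end CfsgLib.SpUni
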